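import Mathlib
import Cfsg.Agent.Lib.Helper93.CG11.Defs

/-!
# S3413, package [NORM]: the normalizer of `⟨x⟩` has order `55` (helper89)
-/

set_option autoImplicit false

namespace Cfsg.Agent.Lib.Helper89.CG11

universe u

/-- basic facts: `⟨x⟩ = C_G(x)` has order `11` and is self-centralizing -/
theorem cent_facts {G : Type u} [Group G] [Finite G] (x : G) (hG : Nat.card G = 7920)
    (hx : Nat.card {h : G // h * x = x * h} = 11) :
    Nat.card (Subgroup.centralizer ({x} : Set G)) = 11 ∧ orderOf x = 11 ∧
    Subgroup.zpowers x = Subgroup.centralizer ({x} : Set G) ∧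
    Subgroup.centralizer ((Subgroup.zpowers x : Subgroup G) : Set G) = Subgroup.zpowers x := by
  have hC : Nat.card (Subgroup.centralizer ({x} : Set G)) = 11 := by
    rw [← hx]
    apply Nat.card_congr
    refine Equiv.subtypeEquivRight ?_
    intro h
    rw [Subgroup.mem_centralizer_iff]
    constructor
    · intro hh
      exact (hh x rfl).symm
    · intro hh g hg
      rw [Set.mem_singleton_iff.1 hg]
      exact hh.symm
  have hxC : x ∈ Subgroup.centralizer ({x} : Set G) := by
    rw [Subgroup.mem_centralizer_iff]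
    intro g hg
    rw [Set.mem_singleton_iff.1 hg]
  have hx1 : x ≠ 1 := by
    intro h1
    have htop : Subgroup.centralizer ({x} : Set G) = ⊤ := by
      rw [eq_top_iff]
      intro g _
      rw [Subgroup.mem_centralizer_iff]
      intro y hy
      rw [Set.mem_singleton_iff.1 hy, h1]
      simp
    rw [htop, Subgroup.card_top, hG] at hC
    norm_num at hC
  have hord : orderOf x = 11 := by
    have hdvd : orderOf x ∣ 11 := by
      rw [← hC]
      exact Subgroup.orderOf_dvd_natCard _ hxC
    rcases (Nat.dvd_prime (by norm_num : Nat.Prime 11)).1 hdvd with h | h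
    · exact absurd (orderOf_eq_one_iff.1 h) hx1
    · exact h
  have hz : Subgroup.zpowers x = Subgroup.centralizer ({x} : Set G) := by
    apply Subgroup.eq_of_le_of_card_ge ((Subgroup.zpowers_le).2 hxC)
    rw [hC, Nat.card_zpowers, hord]
  refine ⟨hC, hord, hz, ?_⟩
  apply le_antisymm
  · have h1 : Subgroup.centralizer ((Subgroup.zpowers x : Subgroup G) : Set G)
        ≤ Subgroup.centralizer ({x} : Set G) := by
      apply Subgroup.centralizer_le
      intro y hy
      rw [Set.mem_singleton_iff.1 hy]
      exact Subgroup.mem_zpowers x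
    exact h1.trans hz.ge
  · intro h hh
    rw [Subgroup.mem_centralizer_iff]
    intro g hg
    obtain ⟨m, rfl⟩ := Subgroup.mem_zpowers_iff.1 hh
    obtain ⟨n, rfl⟩ := Subgroup.mem_zpowers_iff.1 hg
    exact ((Commute.refl x).zpow_zpow n m).eq

/-- `|H| * [K : H] = |K|` for `H ≤ K` -/
theorem card_mul_relIndex_of_le {G : Type u} [Group G] {H K : Subgroup G} (h : H ≤ K) :
    Nat.card H * H.relIndex K = Nat.card K := by
  have h1 := Subgroup.card_mul_index (H.subgroupOf K)
  have h2 : Nat.card (H.subgroupOf K) = Nat.card H :=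
    Nat.card_congr (Subgroup.subgroupOfEquivOfLe h).toEquiv
  rw [h2] at h1
  exact h1

theorem pkgNorm : Cfsg.Agent.Lib.Helper93.CG11.PkgNorm.{u} := by
  intro G _ _ x hG hx
  classical
  obtain ⟨hC, hord, hz, hcz⟩ := cent_facts x hG hx
  have : Fact (Nat.Prime 11) := ⟨by norm_num⟩
  have hHcard : Nat.card (Subgroup.zpowers x) = 11 := by rw [Nat.card_zpowers, hord]
  have key := Subgroup.card_dvd_of_injective _
    (QuotientGroup.kerLift_injective (Subgroup.zpowers x).normalizerMonoidHom)
  rw [Subgroup.normalizerMonoidHom_ker, ← Subgroup.index, ← Subgroup.relIndex] at key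
  have hAut : Nat.card (MulAut (Subgroup.zpowers x)) = 10 := by
    rw [IsCyclic.card_mulAut, hHcard, Nat.totient_prime (by norm_num : Nat.Prime 11)]
  rw [hAut, hcz] at key
  have hle : Subgroup.zpowers x ≤ Subgroup.normalizer ((Subgroup.zpowers x : Subgroup G) : Set G) :=
    Subgroup.le_normalizer
  have hcardN := card_mul_relIndex_of_le hle
  rw [hHcard] at hcardN
  -- Sylow
  have hidx : ¬ 11 ∣ (Subgroup.zpowers x).index := by
    have h1 := Subgroup.card_mul_index (Subgroup.zpowers x)
    rw [hHcard, hG] at h1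
    omega
  let P : Sylow 11 G := (IsPGroup.of_card (n := 1) (by rw [hHcard, pow_one])).toSylow hidx
  have h1 : Nat.card (Sylow 11 G)
      = (Subgroup.normalizer ((Subgroup.zpowers x : Subgroup G) : Set G)).index :=
    Sylow.card_eq_index_normalizer P
  have h2 := card_sylow_modEq_one 11 G
  rw [h1] at h2
  have h3 := Subgroup.card_mul_index
    (Subgroup.normalizer ((Subgroup.zpowers x : Subgroup G) : Set G))
  rw [hG, ← hcardN] at h3
  unfold Nat.ModEq at h2
  obtain ⟨r, hr⟩ : ∃ r, r = (Subgroup.zpowers x).relIndex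
      (Subgroup.normalizer ((Subgroup.zpowers x : Subgroup G) : Set G)) := ⟨_, rfl⟩
  obtain ⟨i, hi⟩ : ∃ i, i = (Subgroup.normalizer ((Subgroup.zpowers x : Subgroup G) : Set G)).index :=
    ⟨_, rfl⟩
  rw [← hr] at key h3 hcardN
  rw [← hi] at h2 h3
  rw [← hcardN]
  have hr10 : r ≤ 10 := Nat.le_of_dvd (by norm_num) key
  have hr0 : 0 < r := Nat.pos_of_dvd_of_pos key (by norm_num)
  interval_cases r <;> omega

end Cfsg.Agent.Lib.Helper89.CG11
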