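import Mathlib
import Cfsg.Agent.Lib.Helper93.CG11.Defs
import Cfsg.Agent.Lib.Helper89.CG11.Norm
import Cfsg.Agent.Lib.Helper80.NseM11.Cent
import Cfsg.Agent.Lib.Helper52.NseM11.Simple

/-!
# S3413, package [DVD]: a normal subgroup of order divisible by `11` is everything (helper89)
-/

set_option autoImplicit false

namespace Cfsg.Agent.Lib.Helper89.CG11

universe u

theorem pkgDvd (hNorm : Cfsg.Agent.Lib.Helper93.CG11.PkgNorm.{u}) :
    Cfsg.Agent.Lib.Helper93.CG11.PkgDvd.{u} := by
  intro G _ _ x hG hx N hN h11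
  classical
  obtain ⟨hC, hord, hz, hcz⟩ := cent_facts x hG hx
  have : Fact (Nat.Prime 11) := ⟨by norm_num⟩
  have hS11 : ∀ P : Sylow 11 G, Nat.card (P : Subgroup G) = 11 := fun P =>
    Cfsg.Agent.Lib.Helper52.NseM11.sylow_card_prime (by rw [hG]; norm_num)
      (by rw [hG]; norm_num) P
  have hxN : x ∈ N :=
    Cfsg.Agent.Lib.Helper52.NseM11.mem_normal_of_orderOf hS11 N hN h11 x hord
  have hHN : Subgroup.zpowers x ≤ N := (Subgroup.zpowers_le).2 hxN
  have hHcard : Nat.card (Subgroup.zpowers x) = 11 := by rw [Nat.card_zpowers, hord]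
  have hidxH : ¬ 11 ∣ (Subgroup.zpowers x).index := by
    have h1 := Subgroup.card_mul_index (Subgroup.zpowers x)
    rw [hHcard, hG] at h1
    omega
  let P : Sylow 11 G := (IsPGroup.of_card (n := 1) (by rw [hHcard, pow_one])).toSylow hidxH
  have hfrat : Subgroup.normalizer ((Subgroup.zpowers x : Subgroup G) : Set G) ⊔ N = ⊤ :=
    Sylow.normalizer_sup_eq_top' P hHN
  have h55 := hNorm x hG hx
  obtain ⟨K, hK⟩ : ∃ K : Subgroup G,
      K = Subgroup.normalizer ((Subgroup.zpowers x : Subgroup G) : Set G) := ⟨_, rfl⟩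
  rw [← hK] at hfrat h55
  have hidx : N.index = N.relIndex K := by
    rw [← Subgroup.relIndex_top_right, ← hfrat, Subgroup.relIndex_sup_right]
  have hcard1 : Nat.card (N ⊓ K : Subgroup G) * N.relIndex K = 55 := by
    have h1 := Subgroup.card_mul_index (N.subgroupOf K)
    have h2 : Nat.card (N.subgroupOf K) = Nat.card (N ⊓ K : Subgroup G) := by
      rw [← Subgroup.subgroupOf_map_subtype, Subgroup.card_map_of_injective K.subtype_injective]
    rw [h2, h55] at h1
    exact h1
  have hHle : Subgroup.zpowers x ≤ N ⊓ K := le_inf hHN (hK ▸ Subgroup.le_normalizer)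
  have h11dvd : 11 ∣ Nat.card (N ⊓ K : Subgroup G) := by
    rw [← hHcard]
    exact Subgroup.card_dvd_of_le hHle
  obtain ⟨c, hc⟩ := h11dvd
  have hrel : N.relIndex K = 1 ∨ N.relIndex K = 5 := by
    rw [hc] at hcard1
    have h5 : c * N.relIndex K = 5 := by nlinarith
    have hdvd : N.relIndex K ∣ 5 := Dvd.intro_left c h5
    rcases (Nat.dvd_prime (by norm_num : Nat.Prime 5)).1 hdvd with h | h
    · exact Or.inl h
    · exact Or.inr h
  rcases hrel with h1 | h5
  · rw [h1] at hidx
    exact Subgroup.index_eq_one.1 hidx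
  · exfalso
    rw [h5] at hidx hcard1
    have hNK : Nat.card (N ⊓ K : Subgroup G) = 11 := by omega
    have hNKeq : N ⊓ K = Subgroup.zpowers x :=
      (Subgroup.eq_of_le_of_card_ge hHle (by rw [hNK, hHcard])).symm
    have hNcard : Nat.card N = 1584 := by
      have h2 := Subgroup.card_mul_index N
      rw [hidx, hG] at h2
      omega
    -- work in `↥N`
    obtain ⟨x', hx'⟩ : ∃ x' : ↥N, x' = ⟨x, hxN⟩ := ⟨_, rfl⟩
    have hx'val : (x' : G) = x := by rw [hx']
    have hx'ord : orderOf x' = 11 := by
      rw [← Subgroup.orderOf_coe, hx'val]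
      exact hord
    have hH'card : Nat.card (Subgroup.zpowers x') = 11 := by rw [Nat.card_zpowers, hx'ord]
    have hidxH' : ¬ 11 ∣ (Subgroup.zpowers x').index := by
      have h1 := Subgroup.card_mul_index (Subgroup.zpowers x')
      rw [hH'card, hNcard] at h1
      omega
    let P' : Sylow 11 ↥N :=
      (IsPGroup.of_card (n := 1) (by rw [hH'card, pow_one])).toSylow hidxH'
    have hP' : Subgroup.normalizer ((P' : Subgroup ↥N) : Set ↥N)
        ≤ Subgroup.centralizer ((P' : Subgroup ↥N) : Set ↥N) := by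
      intro n hn
      have hn0 : n ∈ Subgroup.normalizer ((Subgroup.zpowers x' : Subgroup ↥N) : Set ↥N) := hn
      have hnK : (n : G) ∈ K := by
        have h1 : N.subtype n ∈ (Subgroup.normalizer
            ((Subgroup.zpowers x' : Subgroup ↥N) : Set ↥N)).map N.subtype :=
          Subgroup.mem_map_of_mem _ hn0
        have h2 := Subgroup.le_normalizer_map N.subtype h1
        rw [MonoidHom.map_zpowers] at h2
        rw [hK]
        have h3 : N.subtype x' = x := hx'val
        rw [h3] at h2
        exact h2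
      have hnH : (n : G) ∈ Subgroup.zpowers x := by
        rw [← hNKeq]
        exact ⟨n.2, hnK⟩
      obtain ⟨k, hk⟩ := Subgroup.mem_zpowers_iff.1 hnH
      have hn' : n = x' ^ k := Subtype.ext (by rw [Subgroup.coe_zpow, hx'val]; exact hk.symm)
      rw [Subgroup.mem_centralizer_iff]
      intro g hg
      have hg0 : g ∈ Subgroup.zpowers x' := hg
      obtain ⟨m, rfl⟩ := Subgroup.mem_zpowers_iff.1 hg0
      rw [hn']
      exact ((Commute.refl x').zpow_zpow m k).eq
    have hcompl := MonoidHom.ker_transferSylow_isComplement' P' hP'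
    obtain ⟨Kc, hKc⟩ : ∃ Kc : Subgroup ↥N, Kc = (MonoidHom.transferSylow P' hP').ker := ⟨_, rfl⟩
    rw [← hKc] at hcompl
    have hKn : Kc.Normal := by rw [hKc]; infer_instance
    have hKcard : Nat.card Kc = 144 := by
      have h1 := hcompl.card_mul_card
      have h2 : Nat.card (P' : Subgroup ↥N) = 11 := hH'card
      rw [h2] at h1
      have h3 : Nat.card ↥N = 1584 := hNcard
      omega
    have hcent := Cfsg.Agent.Lib.Helper80.NseM11.pkgCent Kc hKn (by rw [hKcard]) x' hx'ord
    have hle : Kc.map N.subtype ≤ Subgroup.centralizer ({x} : Set G) := by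
      rintro _ ⟨n, hn, rfl⟩
      rw [Subgroup.mem_centralizer_iff]
      intro g hg
      rw [Set.mem_singleton_iff.1 hg]
      have h1 := congrArg Subtype.val (hcent n hn)
      rw [Subgroup.coe_mul, Subgroup.coe_mul, hx'val] at h1
      exact h1
    have h6 := Subgroup.card_le_of_le hle
    rw [Subgroup.card_map_of_injective N.subtype_injective, hKcard, hC] at h6
    omega

end Cfsg.Agent.Lib.Helper89.CG11
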